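import Mathlib

/-! The iterated nilpotent residual and Fitting length. -/

set_option autoImplicit false

namespace CfsgLib.FFLength

open Subgroup

universe u

variable {Γ : Type u} [Group Γ]

/-- The nilpotent residual. -/
def res (S : Subgroup Γ) : Subgroup Γ := ⨅ k, S.lowerCentralSeries k

/-- The iterated nilpotent residual. -/
def resIter : ℕ → Subgroup Γ → Subgroup Γ
  | 0, S => S
  | n + 1, S => res (resIter n S)

@[simp] theorem resIter_zero (S : Subgroup Γ) : resIter 0 S = S := rfl

theorem resIter_succ (n : ℕ) (S : Subgroup Γ) : resIter (n + 1) S = res (resIter n S) := rfl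

theorem res_le (S : Subgroup Γ) : res S ≤ S := (iInf_le _ 0).trans (le_of_eq rfl)

theorem lcs_mono {S T : Subgroup Γ} (h : S ≤ T) : ∀ k, S.lowerCentralSeries k ≤ T.lowerCentralSeries k
  | 0 => h
  | k + 1 => commutator_mono (lcs_mono h k) h

theorem res_mono {S T : Subgroup Γ} (h : S ≤ T) : res S ≤ res T := iInf_mono (lcs_mono h)

theorem resIter_mono {S T : Subgroup Γ} (h : S ≤ T) : ∀ n, resIter n S ≤ resIter n T
  | 0 => h
  | n + 1 => res_mono (resIter_mono h n)

theorem resIter_le (S : Subgroup Γ) : ∀ n, resIter n S ≤ S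
  | 0 => le_rfl
  | n + 1 => (res_le _).trans (resIter_le S n)

theorem exists_lcs_eq_res [Finite Γ] (S : Subgroup Γ) :
    ∃ k, ∀ l, k ≤ l → S.lowerCentralSeries l = res S := by
  haveI : WellFoundedLT (Subgroup Γ) := inferInstance
  obtain ⟨m, ⟨k, rfl⟩, hm⟩ := (wellFounded_lt : WellFounded (α := Subgroup Γ) (· < ·)).has_min
    (Set.range S.lowerCentralSeries) ⟨_, 0, rfl⟩
  have hk : ∀ l, k ≤ l → S.lowerCentralSeries l = S.lowerCentralSeries k := fun l hl =>
    (Subgroup.lowerCentralSeries_antitone S hl).lt_or_eq.resolve_left (hm _ ⟨l, rfl⟩)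
  refine ⟨k, fun l hl => (hk l hl).trans (le_antisymm (le_iInf fun j => ?_) (iInf_le _ k))⟩
  rcases le_total k j with h | h
  · exact (hk j h).ge
  · exact Subgroup.lowerCentralSeries_antitone S h

theorem res_map [Finite Γ] {Δ : Type*} [Group Δ] [Finite Δ] (f : Γ →* Δ) (S : Subgroup Γ) :
    (res S).map f = res (S.map f) := by
  obtain ⟨k, hk⟩ := exists_lcs_eq_res S
  obtain ⟨l, hl⟩ := exists_lcs_eq_res (S.map f)
  rw [← hk (max k l) (le_max_left _ _), ← hl (max k l) (le_max_right _ _), map_lowerCentralSeries]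

theorem resIter_map [Finite Γ] {Δ : Type*} [Group Δ] [Finite Δ] (f : Γ →* Δ) (S : Subgroup Γ) :
    ∀ n, (resIter n S).map f = resIter n (S.map f)
  | 0 => rfl
  | n + 1 => by rw [resIter_succ, resIter_succ, res_map, resIter_map f S n]

theorem res_normal [Finite Γ] (S : Subgroup Γ) [hS : S.Normal] : (res S).Normal := by
  refine ⟨fun x hx g => ?_⟩
  have h : S.map (MulAut.conj g).toMonoidHom = S := by
    refine le_antisymm ?_ fun y hy => ⟨g⁻¹ * y * g, by simpa using hS.conj_mem y hy g⁻¹, by simp [mul_assoc]⟩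
    rintro _ ⟨y, hy, rfl⟩
    exact hS.conj_mem y hy g
  have := res_map (MulAut.conj g).toMonoidHom S
  rw [h] at this
  exact this.le ⟨x, hx, rfl⟩

theorem resIter_normal [Finite Γ] (S : Subgroup Γ) [hS : S.Normal] : ∀ n, (resIter n S).Normal
  | 0 => hS
  | n + 1 => by haveI := resIter_normal S n; exact res_normal _

theorem res_eq_bot [Finite Γ] (S : Subgroup Γ) : res S = ⊥ ↔ Group.IsNilpotent S := by
  rw [isNilpotent_iff_lowerCentralSeries]
  constructor
  · intro h
    obtain ⟨k, hk⟩ := exists_lcs_eq_res S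
    exact ⟨k, (hk k le_rfl).trans h⟩
  · rintro ⟨k, hk⟩
    exact le_bot_iff.mp ((iInf_le _ k).trans hk.le)

/-- A chain of normal subgroups with nilpotent factors. -/
theorem resIter_eq_bot_of_chain {H : Type u} [Group H] {n : ℕ} (F : Fin (n + 1) → Subgroup H)
    (h0 : F 0 = ⊥) (hlast : F (Fin.last n) = ⊤)
    (hfac : ∀ i : Fin n, ∃ k : ℕ, (F i.succ).lowerCentralSeries k ≤ F i.castSucc) :
    resIter n (⊤ : Subgroup H) = ⊥ := by
  have key : ∀ (j : ℕ) (i : Fin (n + 1)), i.val + j = n → resIter j (⊤ : Subgroup H) ≤ F i := by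
    intro j
    induction j with
    | zero =>
      intro i hi
      have : i = Fin.last n := Fin.ext (by simpa using hi)
      rw [this, hlast]
      exact le_top
    | succ j ih =>
      intro i hi
      have hin : i.val < n := by omega
      obtain ⟨k, hk⟩ := hfac ⟨i.val, hin⟩
      refine (res_mono (ih (Fin.succ ⟨i.val, hin⟩) (by simp; omega))).trans ((iInf_le _ k).trans (hk.trans ?_))
      exact le_of_eq (congrArg F (Fin.ext rfl))
  exact le_bot_iff.mp (h0 ▸ key n 0 (by simp))

theorem chain_of_resIter_eq_bot {H : Type u} [Group H] [Finite H] {n : ℕ}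
    (h : resIter n (⊤ : Subgroup H) = ⊥) :
    ∃ F : Fin (n + 1) → Subgroup H, F 0 = ⊥ ∧ F (Fin.last n) = ⊤ ∧ Monotone F ∧ (∀ i, (F i).Normal) ∧
      ∀ i : Fin n, ∃ k : ℕ, (F i.succ).lowerCentralSeries k ≤ F i.castSucc := by
  refine ⟨fun i => resIter (n - i.val) ⊤, by simpa using h, by simp, Fin.monotone_iff_le_succ.mpr fun i => ?_,
    fun i => resIter_normal _ _, fun i => ?_⟩
  · simp only [Fin.val_castSucc, Fin.val_succ]
    rw [show n - i.val = (n - (i.val + 1)) + 1 by omega, resIter_succ]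
    exact res_le _
  · obtain ⟨k, hk⟩ := exists_lcs_eq_res (resIter (n - (i.val + 1)) (⊤ : Subgroup H))
    refine ⟨k, le_of_eq ?_⟩
    simp only [Fin.val_castSucc, Fin.val_succ]
    rw [show n - i.val = (n - (i.val + 1)) + 1 by omega, resIter_succ, hk k le_rfl]

theorem resIter_subgroup [Finite Γ] (S : Subgroup Γ) (n : ℕ) :
    resIter n S = (resIter n (⊤ : Subgroup S)).map S.subtype := by
  rw [resIter_map, ← MonoidHom.range_eq_map, range_subtype]

end CfsgLib.FFLength
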