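import Mathlib
import Cfsg.Agent.Lib.CoprimeGen
import Cfsg.Agent.Lib.CyclicSylowAbelian.Basic
import Cfsg.Agent.Lib.FixedFittingLength.Residual

/-! Fitting length of a solvable group with a large elementary abelian group of coprime operators. -/

set_option autoImplicit false

namespace CfsgLib.FFLength

open Subgroup

universe u

variable {Γ : Type u} [Group Γ] [Finite Γ] {p : ℕ}

theorem conj_mem_centralizer {D B : Subgroup Γ} (hcomm : ∀ a ∈ B, ∀ d ∈ D, a * d = d * a) {a x : Γ} (ha : a ∈ B)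
    (hx : x ∈ centralizer (D : Set Γ)) : a * x * a⁻¹ ∈ centralizer (D : Set Γ) := by
  rw [mem_centralizer_iff]
  intro d hd
  have h1 := mem_centralizer_iff.mp hx d hd
  have h2 : a * d = d * a := hcomm a ha d hd
  calc d * (a * x * a⁻¹) = (d * a) * x * a⁻¹ := by group
    _ = (a * d) * x * a⁻¹ := by rw [h2]
    _ = a * (d * x) * a⁻¹ := by group
    _ = a * (x * d) * a⁻¹ := by rw [h1]
    _ = a * x * (a⁻¹ * (a * d) * a⁻¹) := by group
    _ = a * x * (a⁻¹ * (d * a) * a⁻¹) := by rw [h2]
    _ = a * x * a⁻¹ * d := by group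

theorem card_sup_dvd' {E Z : Subgroup Γ} (h : Z ≤ normalizer (E : Set Γ)) :
    Nat.card ↥(E ⊔ Z) ∣ Nat.card E * Nat.card Z := by
  set N := normalizer (E : Set Γ)
  haveI : (E.subgroupOf N).Normal := normal_in_normalizer
  have h1 := CfsgLib.card_sup_dvd_mul (Z.subgroupOf N) (E.subgroupOf N)
  rw [← subgroupOf_sup h le_normalizer, Nat.card_congr (subgroupOfEquivOfLe (sup_le h le_normalizer)).toEquiv,
    Nat.card_congr (subgroupOfEquivOfLe h).toEquiv, Nat.card_congr (subgroupOfEquivOfLe (le_normalizer : E ≤ N)).toEquiv] at h1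
  rwa [sup_comm, mul_comm]

/-- A subgroup normalised by an elementary abelian group is generated by the fixed points of the
subgroups of index at most `p`. -/
theorem le_iSup_fixed (hp : p.Prime) {B V : Subgroup Γ} (hB : ∀ a ∈ B, ∀ b ∈ B, a * b = b * a)
    (hexp : ∀ a ∈ B, a ^ p = 1) (hBV : B ≤ normalizer (V : Set Γ)) (hcop : (Nat.card B).Coprime (Nat.card V)) :
    V ≤ ⨆ D : {D : Subgroup Γ // D ≤ B ∧ Nat.card B ≤ Nat.card D * p}, V ⊓ centralizer ((D : Subgroup Γ) : Set Γ) := by
  set T := ⨆ D : {D : Subgroup Γ // D ≤ B ∧ Nat.card B ≤ Nat.card D * p}, V ⊓ centralizer ((D : Subgroup Γ) : Set Γ)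
  suffices key : ∀ (m : ℕ) (E : Subgroup Γ), Nat.card B - Nat.card E = m → E ≤ B →
      V ⊓ centralizer (E : Set Γ) ≤ T by
    refine le_trans (le_inf le_rfl fun x _ => ?_) (key _ ⊥ rfl bot_le)
    rw [mem_centralizer_iff]
    intro d hd
    rw [mem_bot.mp hd, one_mul, mul_one]
  intro m
  induction m using Nat.strong_induction_on with
  | _ m ih =>
    intro E hm hEB
    by_cases hd : Nat.card B ≤ Nat.card E * p
    · exact le_iSup (fun D : {D : Subgroup Γ // D ≤ B ∧ Nat.card B ≤ Nat.card D * p} =>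
        V ⊓ centralizer ((D : Subgroup Γ) : Set Γ)) ⟨E, hEB, hd⟩
    set W := V ⊓ centralizer (E : Set Γ)
    have hcommE : ∀ a ∈ B, ∀ d ∈ E, a * d = d * a := fun a ha d hd => hB a ha d (hEB hd)
    -- two independent elements outside `E`
    obtain ⟨b₁, hb₁, hb₁E⟩ : ∃ b ∈ B, b ∉ E := by
      by_contra h
      push Not at h
      exact hd ((card_le_of_le (fun b hb => h b hb)).trans (Nat.le_mul_of_pos_right _ hp.pos))
    have hsize : Nat.card ↥(E ⊔ zpowers b₁) ≤ Nat.card E * p := by
      have h1 : zpowers b₁ ≤ normalizer (E : Set Γ) := zpowers_le.mpr (mem_normalizer_fintype fun d hd => by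
        rw [hcommE b₁ hb₁ d hd, mul_inv_cancel_right]; exact hd)
      have h2 := Nat.le_of_dvd (Nat.mul_pos Nat.card_pos Nat.card_pos) (card_sup_dvd' h1)
      calc Nat.card ↥(E ⊔ zpowers b₁) ≤ Nat.card E * Nat.card (zpowers b₁) := h2
        _ ≤ Nat.card E * p := by
          rw [Nat.card_zpowers]
          exact Nat.mul_le_mul_left _ (Nat.le_of_dvd hp.pos (orderOf_dvd_of_pow_eq_one (hexp b₁ hb₁)))
    obtain ⟨b₂, hb₂, hb₂E⟩ : ∃ b ∈ B, b ∉ E ⊔ zpowers b₁ := by
      by_contra h
      push Not at h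
      exact hd ((card_le_of_le (fun b hb => h b hb)).trans hsize)
    set F := closure ({b₁, b₂} : Set Γ)
    have hFB : F ≤ B := (closure_le _).mpr (by rintro x (rfl | rfl) <;> assumption)
    haveI : IsMulCommutative F := ⟨⟨fun a b => Subtype.ext (hB a (hFB a.2) b (hFB b.2))⟩⟩
    have hFnc : ¬ IsCyclic F := by
      intro hc
      haveI := hc
      obtain ⟨g, hg⟩ := IsCyclic.exists_generator (α := F)
      have hgp : orderOf g ∣ p := orderOf_dvd_of_pow_eq_one (Subtype.ext (hexp g (hFB g.2)))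
      have hb₁F : (⟨b₁, subset_closure (by simp)⟩ : F) ∈ zpowers g := hg _
      have hgen : zpowers (⟨b₁, subset_closure (by simp)⟩ : F) = ⊤ := by
        refine eq_top_of_card_eq _ ?_
        rw [Nat.card_zpowers, ← orderOf_eq_card_of_forall_mem_zpowers hg]
        have h1 : orderOf (⟨b₁, subset_closure (by simp)⟩ : F) ≠ 1 := fun h => hb₁E (by
          have := congrArg Subtype.val (orderOf_eq_one_iff.mp h)
          change b₁ = 1 at this
          rw [this]; exact one_mem E)
        have h2 : orderOf g ≠ 1 := fun h => h1 (Nat.dvd_one.mp (h ▸ orderOf_dvd_of_mem_zpowers hb₁F))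
        have hgo : orderOf g = p := (hp.eq_one_or_self_of_dvd _ hgp).resolve_left h2
        rw [hgo]
        exact (hp.eq_one_or_self_of_dvd _ (hgo ▸ orderOf_dvd_of_mem_zpowers hb₁F)).resolve_left h1
      obtain ⟨i, hi⟩ := (show (⟨b₂, subset_closure (by simp)⟩ : F) ∈ zpowers (⟨b₁, subset_closure (by simp)⟩ : F) by
        rw [hgen]; trivial)
      exact hb₂E (mem_sup_right ⟨i, congrArg Subtype.val hi⟩)
    have hFW : F ≤ normalizer (W : Set Γ) := fun a ha => mem_normalizer_fintype fun x hx =>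
      ⟨(mem_normalizer_iff.mp (hBV (hFB ha)) x).mp hx.1, conj_mem_centralizer hcommE (hFB ha) hx.2⟩
    have hFc : (Nat.card F).Coprime (Nat.card W) :=
      (hcop.coprime_dvd_left (card_dvd_of_le hFB)).coprime_dvd_right (card_dvd_of_le inf_le_left)
    have hgenW := CfsgLib.coprime_generated_by_centralizers hFnc hFW hFc
    rw [← hgenW]
    refine iSup₂_le fun a ha => ?_
    by_cases haE : a ∈ E
    · exfalso
      refine ha.2 ?_
      obtain ⟨x, y, hxy⟩ : ∃ x y : ℤ, a = b₁ ^ x * b₂ ^ y := by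
        have hc : Commute b₁ b₂ := hB b₁ hb₁ b₂ hb₂
        have haF : a ∈ F := ha.1
        clear ha haE
        induction haF using closure_induction with
        | mem z hz =>
          rcases hz with rfl | rfl
          · exact ⟨1, 0, by simp⟩
          · exact ⟨0, 1, by simp⟩
        | one => exact ⟨0, 0, by simp⟩
        | mul z w _ _ ihz ihw =>
          obtain ⟨x, y, rfl⟩ := ihz
          obtain ⟨x', y', rfl⟩ := ihw
          refine ⟨x + x', y + y', ?_⟩
          rw [zpow_add, zpow_add]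
          calc b₁ ^ x * b₂ ^ y * (b₁ ^ x' * b₂ ^ y') = b₁ ^ x * (b₂ ^ y * b₁ ^ x') * b₂ ^ y' := by group
            _ = _ := by rw [((hc.zpow_zpow x' y).symm).eq]; group
        | inv z _ ihz =>
          obtain ⟨x, y, rfl⟩ := ihz
          exact ⟨-x, -y, by rw [mul_inv_rev, zpow_neg, zpow_neg, ((hc.zpow_zpow x y).inv_inv).eq]⟩
      have hsup : a ∈ E ⊔ zpowers b₁ := mem_sup_left haE
      have hb₂p : orderOf b₂ = p := (hp.eq_one_or_self_of_dvd _ (orderOf_dvd_of_pow_eq_one (hexp b₂ hb₂))).resolve_left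
        fun h => hb₂E (by rw [orderOf_eq_one_iff.mp h]; exact one_mem _)
      have hb₁p : orderOf b₁ = p := (hp.eq_one_or_self_of_dvd _ (orderOf_dvd_of_pow_eq_one (hexp b₁ hb₁))).resolve_left
        fun h => hb₁E (by rw [orderOf_eq_one_iff.mp h]; exact one_mem _)
      have hpow : ∀ (b : Γ) (S : Subgroup Γ) (z : ℤ), orderOf b = p → b ^ z ∈ S → ¬ (p : ℤ) ∣ z → b ∈ S := by
        intro b S z hb hz hnd
        have hcp : IsCoprime (p : ℤ) z :=
          (Int.isCoprime_iff_gcd_eq_one).mpr (Nat.Coprime.gcd_eq_one ((hp.coprime_iff_not_dvd).mpr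
            (fun h => hnd (Int.natCast_dvd.mpr h))))
        obtain ⟨u, v, huv⟩ := hcp
        have e : b = (b ^ z) ^ v := by
          conv_lhs => rw [← zpow_one b, ← huv, zpow_add, zpow_mul', zpow_natCast, ← hb, pow_orderOf_eq_one, one_zpow,
            one_mul, zpow_mul']
        rw [e]
        exact zpow_mem hz v
      have hy : (p : ℤ) ∣ y := by
        by_contra hy
        refine hb₂E (hpow b₂ _ y hb₂p ?_ hy)
        rw [show b₂ ^ y = (b₁ ^ x)⁻¹ * a by rw [hxy]; group]
        exact mul_mem (inv_mem (zpow_mem (mem_sup_right (mem_zpowers b₁)) x)) hsup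
      have hb₂y : b₂ ^ y = 1 := orderOf_dvd_iff_zpow_eq_one.mp (by rw [hb₂p]; exact hy)
      rw [hb₂y, mul_one] at hxy
      have hx : (p : ℤ) ∣ x := by
        by_contra hx
        exact hb₁E (hpow b₁ _ x hb₁p (hxy ▸ haE) hx)
      rw [hxy]
      exact orderOf_dvd_iff_zpow_eq_one.mp (by rw [hb₁p]; exact hx)
    · have hlt : Nat.card E < Nat.card ↥(E ⊔ zpowers a) := by
        refine lt_of_le_of_ne (card_le_of_le le_sup_left) fun h => haE ?_
        rw [eq_of_le_of_card_ge (le_sup_left : E ≤ E ⊔ zpowers a) h.ge]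
        exact mem_sup_right (mem_zpowers a)
      have hle : E ⊔ zpowers a ≤ B := sup_le hEB (zpowers_le.mpr (hFB ha.1))
      have := card_le_of_le hle
      refine le_trans (fun x hx => ?_) (ih _ (by omega) (E ⊔ zpowers a) rfl hle)
      refine ⟨hx.1.1, ?_⟩
      show x ∈ centralizer ((E ⊔ zpowers a : Subgroup Γ) : Set Γ)
      rw [sup_eq_closure, centralizer_closure, mem_centralizer_iff]
      rintro y (hy | hy)
      · exact mem_centralizer_iff.mp hx.1.2 y hy
      · obtain ⟨i, rfl⟩ := hy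
        exact ((show Commute a x from mem_centralizer_iff.mp hx.2 a rfl).zpow_left i).eq

end CfsgLib.FFLength
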