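import Mathlib
import Cfsg.Agent.Lib.Coprime
import Cfsg.Agent.Lib.NilpotentCommute
import Cfsg.Agent.Lib.FixedFittingLength.Core

/-! A large elementary abelian operator group has a nontrivial element whose fixed points keep the Fitting length. -/

set_option autoImplicit false

namespace CfsgLib.FFLength

open Subgroup

universe u

/-- The main lemma. -/
theorem exists_fixed_of_resIter_ne_bot {p : ℕ} (hp : p.Prime) :
    ∀ (n : ℕ) (N : ℕ) (Γ : Type u) [Group Γ] [Finite Γ], Nat.card Γ = N →
      ∀ (A X : Subgroup Γ), X.Normal → (∀ a ∈ A, ∀ b ∈ A, a * b = b * a) → (∀ a ∈ A, a ^ p = 1) →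
        (Nat.card A).Coprime (Nat.card X) → Group.IsSolvable X → resIter n X ≠ ⊥ →
        ∃ B : Subgroup Γ, B ≤ A ∧ Nat.card A ≤ Nat.card B * p ^ (n + 1) ∧
          resIter n (X ⊓ centralizer (B : Set Γ)) ≠ ⊥ := by
  intro n
  induction n with
  | zero =>
    intro N Γ _ _ _ A X hX hA hexp hcop hsolv hne
    rw [resIter_zero] at hne
    by_contra hcon
    push Not at hcon
    refine hne (le_bot_iff.mp ((le_iSup_fixed hp hA hexp (by rw [normalizer_eq_top_iff.mpr hX]; exact le_top) hcop).trans
      (iSup_le fun D => ?_)))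
    rw [← hcon D D.2.1 (by rw [zero_add, pow_one]; exact D.2.2)]
    exact le_rfl
  | succ n ihn =>
    intro N
    induction N using Nat.strong_induction_on with
    | _ N ihN =>
      intro Γ _ _ hN A X hX hA hexp hcop hsolv hne
      haveI := hX
      have hAX : A ≤ normalizer (X : Set Γ) := by rw [normalizer_eq_top_iff.mpr hX]; exact le_top
      have hdisj : Disjoint A X := disjoint_of_coprime_natCard hcop
      -- passing from a quotient
      have lift : ∀ (S : Subgroup Γ) [S.Normal], S ≤ X → ∀ (m : ℕ) (Bq : Subgroup (Γ ⧸ S)),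
          Bq ≤ A.map (QuotientGroup.mk' S) →
          ∃ B ≤ A, B.map (QuotientGroup.mk' S) = Bq ∧ Nat.card Bq ≤ Nat.card B ∧
            resIter m (X.map (QuotientGroup.mk' S) ⊓ centralizer (Bq : Set (Γ ⧸ S))) ≤
              (resIter m (X ⊓ centralizer (B : Set Γ))).map (QuotientGroup.mk' S) := by
        intro S _ hSX m Bq hBq
        have hBmap : (A ⊓ Bq.comap (QuotientGroup.mk' S)).map (QuotientGroup.mk' S) = Bq := by
          refine le_antisymm ((map_mono inf_le_right).trans (map_comap_le _ _)) fun y hy => ?_
          obtain ⟨a, ha, rfl⟩ := hBq hy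
          exact ⟨a, ⟨ha, hy⟩, rfl⟩
        refine ⟨A ⊓ Bq.comap (QuotientGroup.mk' S), inf_le_left, hBmap, ?_, ?_⟩
        · conv_lhs => rw [← hBmap]
          exact Nat.le_of_dvd Nat.card_pos (Subgroup.card_map_dvd _ _)
        set B := A ⊓ Bq.comap (QuotientGroup.mk' S) with hBdef
        rw [resIter_map]
        refine resIter_mono ?_ m
        rintro y ⟨⟨x, hx, rfl⟩, hy⟩
        have hBX : B ≤ normalizer (X : Set Γ) := inf_le_left.trans hAX
        obtain ⟨c, hc, hcx⟩ := CfsgLib.coprime_fixed_quotient hBX
          (hcop.coprime_dvd_left (card_dvd_of_le inf_le_left)) (Or.inr hsolv) hSX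
          (by rw [normalizer_eq_top_iff.mpr (inferInstance : S.Normal)]; exact le_top)
          (by rw [normalizer_eq_top_iff.mpr (inferInstance : S.Normal)]; exact le_top) hx
          (fun b hb => by
            rw [← QuotientGroup.eq_one_iff (N := S)]
            have h1 := mem_centralizer_iff.mp hy (QuotientGroup.mk' S b) hb.2
            change QuotientGroup.mk' S (b * x * b⁻¹ * x⁻¹) = 1
            rw [map_mul, map_mul, map_mul, h1, map_inv, map_inv]
            group)
        refine ⟨c, hc, ?_⟩
        rw [QuotientGroup.mk'_apply, QuotientGroup.mk'_apply, QuotientGroup.eq]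
        have h3 := inv_mem hcx
        rwa [mul_inv_rev, inv_inv] at h3
      have hquot : ∀ (S : Subgroup Γ) [S.Normal], S ≤ X → ∀ (m : ℕ), resIter m (X.map (QuotientGroup.mk' S)) =
          (resIter m X).map (QuotientGroup.mk' S) := fun S _ _ m => (resIter_map _ _ m).symm
      have hcardA : ∀ (S : Subgroup Γ) [S.Normal], S ≤ X → Nat.card (A.map (QuotientGroup.mk' S)) = Nat.card A := by
        intro S _ hSX
        rw [show A.map (QuotientGroup.mk' S) = ((QuotientGroup.mk' S).comp A.subtype).range by
          rw [MonoidHom.range_comp, range_subtype]]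
        refine (Nat.card_congr (MonoidHom.ofInjective ?_).toEquiv).symm
        rintro ⟨a, ha⟩ ⟨b, hb⟩ h
        refine Subtype.ext ?_
        have h1 : a⁻¹ * b ∈ S := QuotientGroup.eq.mp h
        exact inv_mul_eq_one.mp (mem_bot.mp (hdisj.le_bot ⟨A.mul_mem (A.inv_mem ha) hb, hSX h1⟩))
      set V := resIter (n + 1) X with hV
      have hVn : V.Normal := resIter_normal X _
      haveI := hVn
      have hVX : V ≤ X := resIter_le X _
      by_cases hmin : ∀ S : Subgroup Γ, S.Normal → S ≤ X → S ≠ ⊥ → V ≤ S
      swap
      · push Not at hmin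
        obtain ⟨S, hS, hSX, hS1, hVS⟩ := hmin
        haveI := hS
        have hlt : Nat.card (Γ ⧸ S) < N := by
          rw [← hN, card_eq_card_quotient_mul_card_subgroup S]
          refine lt_mul_of_one_lt_right Nat.card_pos ?_
          exact lt_of_le_of_ne Nat.card_pos fun h => hS1 (card_eq_one.mp h.symm)
        have hAm : ∀ a ∈ A.map (QuotientGroup.mk' S), ∀ b ∈ A.map (QuotientGroup.mk' S), a * b = b * a := by
          rintro _ ⟨a, ha, rfl⟩ _ ⟨b, hb, rfl⟩
          rw [← map_mul, ← map_mul, hA a ha b hb]
        have hAe : ∀ a ∈ A.map (QuotientGroup.mk' S), a ^ p = 1 := by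
          rintro _ ⟨a, ha, rfl⟩
          rw [← map_pow, hexp a ha, map_one]
        haveI := hsolv
        obtain ⟨Bq, hBq, hc, hr⟩ := ihN _ hlt (Γ ⧸ S) rfl (A.map (QuotientGroup.mk' S)) (X.map (QuotientGroup.mk' S))
          (hX.map _ (QuotientGroup.mk'_surjective S)) hAm hAe
          ((hcop.coprime_dvd_left (Subgroup.card_map_dvd A _)).coprime_dvd_right (Subgroup.card_map_dvd X _))
          (Group.isSolvable_of_surjective ((QuotientGroup.mk' S).subgroupMap_surjective X))
          (by
            rw [hquot S hSX, ne_eq, Subgroup.map_eq_bot_iff, QuotientGroup.ker_mk']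
            exact hVS)
        obtain ⟨B, hB, -, hcB, hle⟩ := lift S hSX (n + 1) Bq hBq
        refine ⟨B, hB, ?_, fun h => hr (le_bot_iff.mp (by rw [h, Subgroup.map_bot] at hle; exact hle))⟩
        rw [← hcardA S hSX]
        exact hc.trans (Nat.mul_le_mul_right _ hcB)
      -- `V` is the only minimal normal subgroup inside `X`
      set K := resIter n X with hK
      haveI hKn : K.Normal := resIter_normal X n
      have hKX : K ≤ X := resIter_le X n
      have hVK : V ≤ K := res_le _
      have hVsolv : Group.IsSolvable V := Group.isSolvable_of_isSolvable_injective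
        (f := Subgroup.inclusion hVX) (Subgroup.inclusion_injective _)
      have hVab : ∀ a ∈ V, ∀ b ∈ V, a * b = b * a := by
        have hlt : ⁅V, V⁆ < V := by
          refine lt_of_le_of_ne (commutator_le_left V V) fun h => hne ?_
          have h2 : commutator (↥V) = ⊤ := by
            apply Subgroup.map_injective V.subtype_injective
            rw [_root_.commutator_def, Subgroup.map_commutator, ← MonoidHom.range_eq_map, range_subtype, h]
          have h3 : ∀ k, derivedSeries (↥V) k = ⊤ := fun k => by
            induction k with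
            | zero => rfl
            | succ k ih => rw [derivedSeries_succ, ih, ← _root_.commutator_def, h2]
          obtain ⟨k, hk⟩ := hVsolv.solvable
          rw [h3 k] at hk
          rw [← range_subtype V, MonoidHom.range_eq_map, hk, Subgroup.map_bot]
        have hbot : ⁅V, V⁆ = ⊥ := by
          by_contra h
          exact (lt_irrefl _) (lt_of_lt_of_le hlt (hmin _ inferInstance ((commutator_le_left V V).trans hVX) h))
        intro a ha b hb
        have := commutator_mem_commutator ha hb
        rw [hbot, mem_bot] at this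
        exact commutatorElement_eq_one_iff_mul_comm.mp this
      haveI : IsMulCommutative V := ⟨⟨fun a b => Subtype.ext (hVab a a.2 b b.2)⟩⟩
      obtain ⟨q, hq, hqV⟩ := Nat.exists_prime_and_dvd (n := Nat.card V) fun h => hne (card_eq_one.mp h)
      haveI := Fact.mk hq
      -- a normal subgroup whose Sylow subgroup is normal
      have hsyl : ∀ (M : Subgroup Γ) (r : ℕ) [Fact r.Prime] (R : Sylow r M), M.Normal → (R : Subgroup M).Normal →
          ((R : Subgroup M).map M.subtype).Normal := by
        intro M r _ R hM hR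
        haveI := hM
        haveI := R.characteristic_of_normal hR
        infer_instance
      have hVq : IsPGroup q V := by
        obtain ⟨Q⟩ : Nonempty (Sylow q V) := inferInstance
        have hQn : (Q : Subgroup V).Normal := inferInstance
        refine (Q.2.map V.subtype).to_le (hmin _ (hsyl V q Q hVn hQn) ((map_subtype_le _).trans hVX) fun h => ?_)
        rw [(Subgroup.map_eq_bot_iff_of_injective _ V.subtype_injective)] at h
        have := Q.card_eq_multiplicity
        rw [h, card_bot] at this
        exact absurd this (Nat.one_lt_pow (hq.factorization_pos_of_dvd Nat.card_pos.ne' hqV).ne' hq.one_lt).ne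
      -- elements of `q`-power order are never in nilpotent parts of order prime to `q`
      set S := K ⊓ centralizer (V : Set Γ) with hS
      haveI hSn : S.Normal := inferInstance
      have hSX : S ≤ X := inf_le_left.trans hKX
      have hVS : V ≤ S := le_inf hVK fun v hv => mem_centralizer_iff.mpr fun w hw => hVab w hw v hv
      obtain ⟨k, hk⟩ := exists_lcs_eq_res K
      have hSnil : Group.IsNilpotent S := by
        rw [isNilpotent_iff_lowerCentralSeries]
        refine ⟨k + 1, le_bot_iff.mp ?_⟩
        refine (commutator_mono ((lcs_mono inf_le_left k).trans (hk k le_rfl).le) inf_le_right).trans ?_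
        rw [commutator_le]
        intro a ha b hb
        rw [mem_bot, commutatorElement_eq_one_iff_mul_comm]
        exact mem_centralizer_iff.mp hb a ha
      have hSq : IsPGroup q S := by
        refine IsPGroup.of_card (n := (Nat.card S).primeFactorsList.length) ?_
        refine Nat.eq_prime_pow_of_unique_prime_dvd Nat.card_pos.ne' fun {r} hr hrd => ?_
        by_contra hrq
        haveI := Fact.mk hr
        obtain ⟨R⟩ : Nonempty (Sylow r S) := inferInstance
        haveI := hSnil
        have hRn : (R : Subgroup S).Normal := inferInstance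
        have hR1 : (R : Subgroup S).map S.subtype ≠ ⊥ := fun h => by
          rw [(Subgroup.map_eq_bot_iff_of_injective _ S.subtype_injective)] at h
          have := R.card_eq_multiplicity
          rw [h, card_bot] at this
          exact absurd this (Nat.one_lt_pow (hr.factorization_pos_of_dvd Nat.card_pos.ne' hrd).ne' hr.one_lt).ne
        have hle := hmin _ (hsyl S r R hSn hRn) ((map_subtype_le _).trans hSX) hR1
        obtain ⟨⟨v, hv⟩, hv1⟩ := Subgroup.ne_bot_iff_exists_ne_one.mp hne
        exact hv1 (Subtype.ext (mem_bot.mp ((IsPGroup.disjoint_of_ne q r (Ne.symm hrq) V _ hVq (R.2.map _)).le_bot ⟨hv, hle hv⟩)))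
      have hKS : ¬ K ≤ S := fun h => hne (by
        rw [hV, resIter_succ, res_eq_bot]
        exact (hSq.to_le h).isNilpotent)
      -- the image of `K` is nilpotent of order prime to `q`
      set K' := K.map (QuotientGroup.mk' S) with hK'
      haveI hK'n : K'.Normal := hKn.map _ (QuotientGroup.mk'_surjective S)
      have hK'nil : Group.IsNilpotent K' := by
        rw [← res_eq_bot, hK', ← res_map, Subgroup.map_eq_bot_iff, QuotientGroup.ker_mk']
        exact hVS
      have hK'q : ¬ q ∣ Nat.card K' := by
        intro hd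
        obtain ⟨T⟩ : Nonempty (Sylow q K') := inferInstance
        haveI := hK'nil
        have hTn : (T : Subgroup K').Normal := inferInstance
        haveI := T.characteristic_of_normal hTn
        set T₁ := ((T : Subgroup K').map K'.subtype).comap (QuotientGroup.mk' S)
        haveI hT₁n : T₁.Normal := inferInstance
        have hT₁q : IsPGroup q T₁ := (T.2.map K'.subtype).comap_of_ker_isPGroup _ (by rw [QuotientGroup.ker_mk']; exact hSq)
        have hT₁K : T₁ ≤ K := by
          intro x hx
          obtain ⟨y, hy, hyx⟩ := map_subtype_le _ hx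
          have h1 : y⁻¹ * x ∈ S := QuotientGroup.eq.mp hyx
          have := mul_mem hy (inf_le_left (b := centralizer (V : Set Γ)) h1)
          rwa [mul_inv_cancel_left] at this
        have hVT : V ≤ T₁ := hVS.trans (fun x hx => by
          simp only [T₁, mem_comap]
          rw [QuotientGroup.mk'_apply, (QuotientGroup.eq_one_iff x).mpr hx]
          exact one_mem _)
        -- `V` meets the centre
        have hW1 : V ⊓ centralizer (T₁ : Set Γ) ≠ ⊥ := by
          intro h
          haveI : (V.subgroupOf T₁).Normal := inferInstance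
          have hne' : (V.subgroupOf T₁) ≠ ⊥ := fun h' => hne (by
            rw [subgroupOf_eq_bot] at h'
            exact disjoint_self.mp (h'.mono_right hVT))
          haveI := hT₁q.isNilpotent
          obtain ⟨⟨z, hz⟩, hz1⟩ := Subgroup.ne_bot_iff_exists_ne_one.mp
            (CfsgLib.inf_center_ne_bot_of_nilpotent (N := V.subgroupOf T₁) hne')
          refine hz1 (Subtype.ext (Subtype.ext (mem_bot.mp (h.le ⟨hz.1, mem_centralizer_iff.mpr fun y hy => ?_⟩))))
          exact congrArg Subtype.val (Subgroup.mem_center_iff.mp hz.2 ⟨y, hy⟩)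
        have hVc := hmin _ inferInstance (inf_le_left.trans hVX) hW1
        have hTS : T₁ ≤ S := fun x hx => ⟨hT₁K hx, mem_centralizer_iff.mpr fun v hv =>
          (mem_centralizer_iff.mp (hVc hv).2 x hx).symm⟩
        have hTbot : (T : Subgroup K').map K'.subtype = ⊥ := by
          rw [← map_comap_eq_self_of_surjective (QuotientGroup.mk'_surjective S) ((T : Subgroup K').map K'.subtype),
            Subgroup.map_eq_bot_iff, QuotientGroup.ker_mk']
          exact hTS
        rw [(Subgroup.map_eq_bot_iff_of_injective _ K'.subtype_injective)] at hTbot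
        have := T.card_eq_multiplicity
        rw [hTbot, card_bot] at this
        exact absurd this (Nat.one_lt_pow (hq.factorization_pos_of_dvd Nat.card_pos.ne' hd).ne' hq.one_lt).ne
      haveI := hsolv
      obtain ⟨Bq, hBq, hc, hr⟩ := ihn (Nat.card (Γ ⧸ S)) (Γ ⧸ S) rfl (A.map (QuotientGroup.mk' S)) (X.map (QuotientGroup.mk' S))
        (hX.map _ (QuotientGroup.mk'_surjective S))
        (by rintro _ ⟨a, ha, rfl⟩ _ ⟨b, hb, rfl⟩; rw [← map_mul, ← map_mul, hA a ha b hb])
        (by rintro _ ⟨a, ha, rfl⟩; rw [← map_pow, hexp a ha, map_one])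
        ((hcop.coprime_dvd_left (Subgroup.card_map_dvd A _)).coprime_dvd_right (Subgroup.card_map_dvd X _))
        (Group.isSolvable_of_surjective ((QuotientGroup.mk' S).subgroupMap_surjective X))
        (by rw [hquot S hSX, ne_eq, Subgroup.map_eq_bot_iff, QuotientGroup.ker_mk']; exact hKS)
      obtain ⟨B, hB, -, hcB, hle⟩ := lift S hSX n Bq hBq
      rw [hcardA S hSX] at hc
      set Y := resIter n (X ⊓ centralizer (B : Set Γ))
      have hYK : Y ≤ K := resIter_mono inf_le_left n
      obtain ⟨y, hy, hyS⟩ : ∃ y ∈ Y, y ∉ S := by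
        by_contra h
        push Not at h
        exact hr (le_bot_iff.mp (hle.trans (by
          rw [le_bot_iff, Subgroup.map_eq_bot_iff, QuotientGroup.ker_mk']; exact h)))
      -- the part of order prime to `q`
      obtain ⟨a, b, hab, ha, hb, ⟨j, hj⟩, hbq⟩ := CfsgLib.CycSyl.split (p := q) y
      have haS : a ∈ S := by
        rw [← QuotientGroup.eq_one_iff (N := S), ← orderOf_eq_one_iff]
        have h1 : QuotientGroup.mk' S a ∈ K' := mem_map_of_mem _ (hYK (zpowers_le.mpr hy ha))
        refine Nat.eq_one_of_dvd_coprimes ((Nat.Coprime.pow_left j ((hq.coprime_iff_not_dvd).mpr hK'q)))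
          (orderOf_dvd_of_pow_eq_one ?_) (Subgroup.orderOf_dvd_natCard K' h1)
        rw [← QuotientGroup.mk_pow, hj, QuotientGroup.mk_one]
      have hbS : b ∉ S := fun h => hyS (hab ▸ mul_mem haS h)
      have hbY : b ∈ Y := zpowers_le.mpr hy hb
      have hBcomm : ∀ a ∈ B, ∀ b ∈ B, a * b = b * a := fun a ha b hb => hA a (hB ha) b (hB hb)
      have hgen := le_iSup_fixed (V := V) hp hBcomm (fun a ha => hexp a (hB ha))
        (by rw [normalizer_eq_top_iff.mpr hVn]; exact le_top)
        ((hcop.coprime_dvd_left (card_dvd_of_le hB)).coprime_dvd_right (card_dvd_of_le hVX))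
      obtain ⟨D, v, hv, hvb⟩ : ∃ D : {D : Subgroup Γ // D ≤ B ∧ Nat.card B ≤ Nat.card D * p},
          ∃ v ∈ V ⊓ centralizer ((D : Subgroup Γ) : Set Γ), b * v ≠ v * b := by
        by_contra h
        push Not at h
        refine hbS ⟨hYK hbY, mem_centralizer_iff.mpr fun w hw => ?_⟩
        have hle' : (⨆ D : {D : Subgroup Γ // D ≤ B ∧ Nat.card B ≤ Nat.card D * p},
            V ⊓ centralizer ((D : Subgroup Γ) : Set Γ)) ≤ centralizer ({b} : Set Γ) :=
          iSup_le fun D x hx => mem_centralizer_singleton_iff.mpr (h D x hx).symm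
        exact mem_centralizer_singleton_iff.mp (hle' (hgen hw))
      refine ⟨D, D.2.1.trans hB, ?_, fun hnil => hvb ?_⟩
      · calc Nat.card A ≤ Nat.card Bq * p ^ (n + 1) := hc
          _ ≤ Nat.card B * p ^ (n + 1) := Nat.mul_le_mul_right _ hcB
          _ ≤ Nat.card (D : Subgroup Γ) * p * p ^ (n + 1) := Nat.mul_le_mul_right _ D.2.2
          _ = Nat.card (D : Subgroup Γ) * p ^ (n + 1 + 1) := by ring
      rw [resIter_succ, res_eq_bot] at hnil
      set Z := resIter n (X ⊓ centralizer ((D : Subgroup Γ) : Set Γ))
      have hbZ : b ∈ Z := resIter_mono (inf_le_inf le_rfl (centralizer_le D.2.1)) n hbY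
      have hvY : v ∈ X ⊓ centralizer ((D : Subgroup Γ) : Set Γ) := ⟨hVX hv.1, hv.2⟩
      have hZnorm : v ∈ normalizer (Z : Set Γ) := by
        set Y₀ := X ⊓ centralizer ((D : Subgroup Γ) : Set Γ)
        refine mem_normalizer_fintype fun z hz => ?_
        have h1 : Y₀.map (MulAut.conj v).toMonoidHom = Y₀ := by
          refine le_antisymm ?_ fun w hw => ⟨v⁻¹ * w * v, mul_mem (mul_mem (inv_mem hvY) hw) hvY, by simp [mul_assoc]⟩
          rintro _ ⟨w, hw, rfl⟩
          exact mul_mem (mul_mem hvY hw) (inv_mem hvY)
        have h2 := resIter_map (MulAut.conj v).toMonoidHom Y₀ n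
        rw [h1] at h2
        exact h2.le ⟨z, hz, rfl⟩
      set c := b * v * b⁻¹ * v⁻¹ with hcdef
      have hcV : c ∈ V := mul_mem (hVn.conj_mem v hv.1 b) (inv_mem hv.1)
      have hcZ : c ∈ Z := by
        rw [hcdef, show b * v * b⁻¹ * v⁻¹ = b * (v * b⁻¹ * v⁻¹) by group]
        exact mul_mem hbZ ((mem_normalizer_iff.mp hZnorm _).mp (inv_mem hbZ))
      haveI := hnil
      obtain ⟨i, hi⟩ := IsPGroup.iff_orderOf.mp hVq ⟨c, hcV⟩
      rw [Subgroup.orderOf_mk] at hi
      have hbc : b * c = c * b := congrArg Subtype.val (CfsgLib.commute_of_nilpotent (H := Z) ⟨b, hbZ⟩ ⟨c, hcZ⟩ (by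
        rw [Subgroup.orderOf_mk, Subgroup.orderOf_mk, hi]
        exact hbq.pow_right i)).eq
      have hiter : ∀ m : ℕ, b ^ m * v * (b ^ m)⁻¹ = c ^ m * v := by
        intro m
        induction m with
        | zero => simp
        | succ m ih =>
          have h1 : b * v * b⁻¹ = c * v := by rw [hcdef]; group
          have hc' : b * c ^ m * b⁻¹ = c ^ m := by
            rw [(show Commute b c from hbc).pow_right m |>.eq, mul_inv_cancel_right]
          rw [pow_succ', mul_inv_rev, show b * b ^ m * v * ((b ^ m)⁻¹ * b⁻¹) = b * (b ^ m * v * (b ^ m)⁻¹) * b⁻¹ by group,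
            ih, show b * (c ^ m * v) * b⁻¹ = (b * c ^ m * b⁻¹) * (b * v * b⁻¹) by group, hc', h1, pow_succ]
          exact (mul_assoc _ _ _).symm
      have h := hiter (orderOf b)
      rw [pow_orderOf_eq_one, one_mul, inv_one, mul_one] at h
      have hc1 : c = 1 := by
        rw [← orderOf_eq_one_iff]
        exact Nat.eq_one_of_dvd_coprimes (hbq.pow_right i) (orderOf_dvd_of_pow_eq_one (mul_eq_right.mp h.symm)) (hi ▸ dvd_rfl)
      rw [hcdef, mul_inv_eq_one, mul_inv_eq_iff_eq_mul] at hc1
      exact hc1

end CfsgLib.FFLength
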