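import Mathlib
import Cfsg.Prelude.Def_EvenType
import Cfsg.Agent.Lib.CoprimeGen
import Cfsg.Agent.Lib.FixedFittingLength.Main

/-! Solvability and Fitting length from fixed points, given the solvable signalizer functor theorem. -/

set_option autoImplicit false

namespace CfsgLib.FFLength

open Cfsg Subgroup

universe u v

/-- The statement of the solvable signalizer functor theorem that is needed. -/
def SigSolvable : Prop :=
  ∀ {G : Type u} [Group G] [Finite G] {p : ℕ} [Fact p.Prime] (A : Subgroup G),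
    (∀ a ∈ A, ∀ b ∈ A, a * b = b * a) → (∀ a ∈ A, a ^ p = 1) → p ^ 3 ≤ Nat.card A →
    ∀ θ : G → Subgroup G, (∀ a ∈ A, a ≠ 1 → θ a ≤ centralizer {a}) → (∀ a ∈ A, a ≠ 1 → ¬ p ∣ Nat.card (θ a)) →
      (∀ a ∈ A, a ≠ 1 → ∀ b ∈ A, ∀ x ∈ θ a, b * x * b⁻¹ ∈ θ a) → (∀ a ∈ A, a ≠ 1 → Group.IsSolvable (θ a)) →
      (∀ a ∈ A, a ≠ 1 → ∀ b ∈ A, b ≠ 1 → θ a ⊓ centralizer {b} ≤ θ b) →
      Group.IsSolvable ↥(⨆ a : {a : G // a ∈ A ∧ a ≠ 1}, θ a)

/-- A group with solvable fixed points of a coprime elementary abelian group of rank three is solvable. -/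
theorem solvable_of_fixed (hSF : SigSolvable.{u}) {G : Type u} [Group G] [Finite G] {p : ℕ} [hp : Fact p.Prime]
    (A X : Subgroup G) (hA : ∀ a ∈ A, ∀ b ∈ A, a * b = b * a) (hexp : ∀ a ∈ A, a ^ p = 1)
    (hrank : p ^ 3 ≤ Nat.card A) (hAX : A ≤ normalizer (X : Set G)) (hX : ¬ p ∣ Nat.card X)
    (hsol : ∀ a ∈ A, a ≠ 1 → Group.IsSolvable ↥(X ⊓ centralizer ({a} : Set G))) : Group.IsSolvable X := by
  have hAp : IsPGroup p A := fun a => ⟨1, Subtype.ext (by rw [pow_one]; exact hexp a a.2)⟩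
  obtain ⟨k, hk⟩ := IsPGroup.iff_card.mp hAp
  have hcop : (Nat.card A).Coprime (Nat.card X) := by
    rw [hk]
    exact Nat.Coprime.pow_left k ((hp.out.coprime_iff_not_dvd).mpr hX)
  haveI : IsMulCommutative A := ⟨⟨fun a b => Subtype.ext (hA a a.2 b b.2)⟩⟩
  have hnc : ¬ IsCyclic A := by
    intro hc
    haveI := hc
    obtain ⟨g, hg⟩ := IsCyclic.exists_generator (α := A)
    have h1 : Nat.card A ≤ p := by
      rw [← orderOf_eq_card_of_forall_mem_zpowers hg]
      exact Nat.le_of_dvd hp.out.pos (orderOf_dvd_of_pow_eq_one (Subtype.ext (hexp g g.2)))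
    have h2 : p ^ 3 ≤ p ^ 1 := by rw [pow_one]; exact hrank.trans h1
    exact absurd (Nat.pow_le_pow_iff_right hp.out.one_lt |>.mp h2) (by omega)
  set θ : G → Subgroup G := fun a => X ⊓ centralizer ({a} : Set G)
  have h := hSF A hA hexp hrank θ (fun a _ _ => inf_le_right)
    (fun a _ _ hd => hX (hd.trans (card_dvd_of_le inf_le_left)))
    (fun a ha _ b hb x hx => ⟨(mem_normalizer_iff.mp (hAX hb) x).mp hx.1, by
      have := conj_mem_centralizer (D := zpowers a) (B := A)
        (fun c hc d hd => by obtain ⟨i, rfl⟩ := hd; exact hA c hc _ (zpow_mem ha i)) hb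
        (show x ∈ centralizer ((zpowers a : Subgroup G) : Set G) from by
          rw [zpowers_eq_closure, centralizer_closure]; exact hx.2)
      rwa [zpowers_eq_closure, centralizer_closure] at this⟩)
    hsol (fun a _ _ b _ _ x hx => ⟨hx.1.1, hx.2⟩)
  haveI := h
  have hle : X ≤ ⨆ a : {a : G // a ∈ A ∧ a ≠ 1}, θ a := by
    refine (CfsgLib.coprime_generated_by_centralizers hnc hAX hcop).ge.trans ?_
    exact iSup₂_le fun a ha => le_iSup_of_le (⟨a, ha⟩ : {a : G // a ∈ A ∧ a ≠ 1}) le_rfl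
  exact Group.isSolvable_of_isSolvable_injective (f := Subgroup.inclusion hle) (Subgroup.inclusion_injective _)

/-- The Fitting length is bounded by that of the fixed points. -/
theorem chain_of_fixed (hSF : SigSolvable.{max u v}) {X : Type u} {A : Type v} [Group X] [Finite X]
    [CommGroup A] [Finite A] {p : ℕ} [hp : Fact p.Prime] (hA : IsPGroup p A) (hexp : ∀ a : A, a ^ p = 1)
    (hnc : ¬ IsCyclic A) (hcop : ¬ p ∣ Nat.card X) (φ : A →* MulAut X) (n : ℕ)
    (hcent : ∀ a : A, a ≠ 1 → Group.IsSolvable ↥(Cfsg.fixedSubgroup (φ a)) ∧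
      (∃ F : Fin (n + 1) → Subgroup ↥(Cfsg.fixedSubgroup (φ a)), F 0 = ⊥ ∧ F (Fin.last n) = ⊤ ∧ Monotone F ∧
        (∀ i, (F i).Normal) ∧ ∀ i : Fin n, ∃ k : ℕ, (F i.succ).lowerCentralSeries k ≤ F i.castSucc))
    (hrank : p ^ (n + 2) ≤ Nat.card A) :
    Group.IsSolvable X ∧ (∃ F : Fin (n + 1) → Subgroup X, F 0 = ⊥ ∧ F (Fin.last n) = ⊤ ∧ Monotone F ∧
      (∀ i, (F i).Normal) ∧ ∀ i : Fin n, ∃ k : ℕ, (F i.succ).lowerCentralSeries k ≤ F i.castSucc) := by
  classical
  haveI : Finite (X ⋊[φ] A) := Finite.of_equiv _ SemidirectProduct.equivProd.symm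
  set ι : X →* X ⋊[φ] A := SemidirectProduct.inl
  set X' : Subgroup (X ⋊[φ] A) := ι.range
  set A' : Subgroup (X ⋊[φ] A) := (SemidirectProduct.inr : A →* X ⋊[φ] A).range
  have hX'n : X'.Normal := by
    show (SemidirectProduct.inl : X →* X ⋊[φ] A).range.Normal
    rw [SemidirectProduct.range_inl_eq_ker_rightHom]
    exact MonoidHom.normal_ker _
  have hA' : ∀ a ∈ A', ∀ b ∈ A', a * b = b * a := by
    rintro _ ⟨a, rfl⟩ _ ⟨b, rfl⟩
    rw [← map_mul, ← map_mul, mul_comm a b]
  have hexp' : ∀ a ∈ A', a ^ p = 1 := by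
    rintro _ ⟨a, rfl⟩
    rw [← map_pow, hexp, map_one]
  have hcA : Nat.card A' = Nat.card A :=
    (Nat.card_congr (MonoidHom.ofInjective SemidirectProduct.inr_injective).toEquiv).symm
  have hcX : Nat.card X' = Nat.card X :=
    (Nat.card_congr (MonoidHom.ofInjective SemidirectProduct.inl_injective).toEquiv).symm
  -- fixed points as centralisers
  have hfix : ∀ a : A, X' ⊓ centralizer ({SemidirectProduct.inr a} : Set (X ⋊[φ] A)) =
      (Cfsg.fixedSubgroup (φ a)).map ι := by
    intro a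
    ext y
    constructor
    · rintro ⟨⟨x, rfl⟩, hy⟩
      refine ⟨x, ?_, rfl⟩
      have h1 := mem_centralizer_singleton_iff.mp hy
      show φ a x = x
      refine SemidirectProduct.inl_injective (φ := φ) ?_
      rw [SemidirectProduct.inl_aut]
      rw [map_inv]
      exact mul_inv_eq_iff_eq_mul.mpr h1.symm
    · rintro ⟨x, hx, rfl⟩
      refine ⟨⟨x, rfl⟩, mem_centralizer_singleton_iff.mpr ?_⟩
      have h1 : φ a x = x := hx
      have h2 := SemidirectProduct.inl_aut (φ := φ) a x
      rw [h1, map_inv, eq_mul_inv_iff_mul_eq] at h2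
      exact h2
  have hsol : Group.IsSolvable X := by
    rcases Nat.eq_zero_or_pos n with hn | hn
    · -- no nontrivial fixed points
      subst hn
      suffices h : Subsingleton X by
        exact ⟨0, Subsingleton.elim _ _⟩
      refine (Nat.card_eq_one_iff_unique.mp ?_).1
      rw [← hcX, card_eq_one]
      haveI : IsMulCommutative A' := ⟨⟨fun a b => Subtype.ext (hA' a a.2 b b.2)⟩⟩
      have hnc' : ¬ IsCyclic A' := fun h => hnc (isCyclic_of_surjective _ (MonoidHom.ofInjective
        (SemidirectProduct.inr_injective (φ := φ))).symm.surjective)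
      have hcop' : (Nat.card A').Coprime (Nat.card X') := by
        obtain ⟨k, hk⟩ := IsPGroup.iff_card.mp hA
        rw [hcA, hcX, hk]
        exact Nat.Coprime.pow_left k ((hp.out.coprime_iff_not_dvd).mpr hcop)
      rw [← CfsgLib.coprime_generated_by_centralizers (K := X') hnc' (by rw [normalizer_eq_top_iff.mpr hX'n]; exact le_top) hcop']
      refine le_bot_iff.mp (iSup₂_le fun a ha => ?_)
      obtain ⟨⟨a, rfl⟩, ha1⟩ := ha
      rw [hfix, le_bot_iff, Subgroup.map_eq_bot_iff_of_injective _ SemidirectProduct.inl_injective]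
      obtain ⟨-, F, h0, hl, -⟩ := hcent a (fun h => ha1 (by rw [h, map_one]))
      have h1 : (⊤ : Subgroup ↥(Cfsg.fixedSubgroup (φ a))) = ⊥ := hl ▸ h0
      haveI := (Subgroup.subsingleton_iff.mp (subsingleton_of_top_le_bot h1.le : Subsingleton (Subgroup ↥(Cfsg.fixedSubgroup (φ a)))))
      exact eq_bot_of_subsingleton _
    · have hX' : Group.IsSolvable X' := solvable_of_fixed hSF A' X' hA' hexp'
        (by rw [hcA]; exact (Nat.pow_le_pow_right hp.out.pos (by omega)).trans hrank)
        (by rw [normalizer_eq_top_iff.mpr hX'n]; exact le_top) (by rw [hcX]; exact hcop)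
        (by
          rintro _ ⟨a, rfl⟩ ha1
          rw [hfix]
          haveI := (hcent a fun h => ha1 (by rw [h, map_one])).1
          exact Group.isSolvable_of_surjective (ι.subgroupMap_surjective _))
      haveI := hX'
      exact Group.isSolvable_of_isSolvable_injective (f := ι.rangeRestrict)
        (fun a b h => SemidirectProduct.inl_injective (congrArg Subtype.val h))
  refine ⟨hsol, chain_of_resIter_eq_bot ?_⟩
  by_contra hne
  have hne' : resIter n X' ≠ ⊥ := fun h => hne (by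
    have h2 := resIter_map ι (⊤ : Subgroup X) n
    rw [← MonoidHom.range_eq_map, show ι.range = X' from rfl, h,
      Subgroup.map_eq_bot_iff_of_injective _ SemidirectProduct.inl_injective] at h2
    exact h2)
  obtain ⟨B, hB, hcard, hr⟩ := exists_fixed_of_resIter_ne_bot hp.out n _ (X ⋊[φ] A) rfl A' X' hX'n hA' hexp'
    (by
      obtain ⟨k, hk⟩ := IsPGroup.iff_card.mp hA
      rw [hcA, hcX, hk]
      exact Nat.Coprime.pow_left k ((hp.out.coprime_iff_not_dvd).mpr hcop))
    (by
      haveI := hsol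
      exact Group.isSolvable_of_surjective (MonoidHom.rangeRestrict_surjective ι)) hne'
  obtain ⟨⟨b, hb⟩, hb1⟩ : ∃ b : B, b ≠ 1 := by
    by_contra hh
    push Not at hh
    have hB1 : B = ⊥ := (eq_bot_iff_forall _).mpr fun x hx => congrArg Subtype.val (hh ⟨x, hx⟩)
    rw [hB1, card_bot, one_mul, hcA] at hcard
    exact absurd (Nat.pow_le_pow_iff_right hp.out.one_lt |>.mp (hrank.trans hcard)) (by omega)
  obtain ⟨a, rfl⟩ := hB hb
  obtain ⟨-, F, h0, hl, -, -, hfac⟩ := hcent a fun h => hb1 (Subtype.ext ((congrArg (SemidirectProduct.inr : A →* X ⋊[φ] A) h).trans (map_one _)))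
  refine hr (le_bot_iff.mp ((resIter_mono (inf_le_inf le_rfl (centralizer_le (Set.singleton_subset_iff.mpr hb))) n).trans ?_))
  rw [hfix, le_bot_iff, ← resIter_map, resIter_subgroup, resIter_eq_bot_of_chain F h0 hl hfac, Subgroup.map_bot,
    Subgroup.map_bot]

end CfsgLib.FFLength
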